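import Groth.Agent.NormSect.Basic
import Groth.Prelude.Def_ega3
import Groth.Prelude.Def_Pi1
import Mathlib

/-!
When the structure sheaf of the target is the direct image of that of the source.
-/

set_option autoImplicit false
set_option backward.isDefEq.respectTransparency false
set_option linter.style.haveILetI false

universe u

open CategoryTheory AlgebraicGeometry TopologicalSpace Opposite

namespace Groth.Agent.DomFib

/-- An element of the function field lying in all local rings of an open is a section. -/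
theorem exists_section {X : Scheme.{u}} [IsIntegral X] (U : X.Opens) [Nonempty U] (a : X.functionField)
    (h : ∀ x ∈ U, ∃ t : X.presheaf.stalk x, algebraMap (X.presheaf.stalk x) X.functionField t = a) :
    ∃ s : Γ(X, U), X.germToFunctionField U s = a := by
  have hloc : ∀ p : U, ∃ (V : X.Opens) (_ : Nonempty V) (_ : p.1 ∈ V) (_ : V ≤ U) (s : Γ(X, V)),
      X.germToFunctionField V s = a := by
    intro p
    obtain ⟨t, ht⟩ := h p.1 p.2
    obtain ⟨V, hpV, s, rfl⟩ := X.presheaf.germ_exist t
    haveI : Nonempty ((V ⊓ U : X.Opens) : Scheme.{u}) := ⟨⟨p.1, hpV, p.2⟩⟩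
    haveI : Nonempty V := ⟨⟨p.1, hpV⟩⟩
    refine ⟨V ⊓ U, inferInstance, ⟨hpV, p.2⟩, inf_le_right, X.presheaf.map (homOfLE inf_le_left).op s, ?_⟩
    rw [NormSect.germTo_res inf_le_left s, ← ht]
    exact (X.presheaf.germ_stalkSpecializes_apply (U := V) hpV ((genericPoint_spec X).specializes (Set.mem_univ p.1)) s).symm
  choose V hne hpV hVU s hs using hloc
  have hcompat : TopCat.Presheaf.IsCompatible X.presheaf V s := by
    intro i j
    haveI := hne i; haveI := hne j
    have hne' : ((V i : Set X) ∩ V j).Nonempty :=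
      nonempty_preirreducible_inter (V i).2 (V j).2 ⟨i.1, hpV i⟩ ⟨j.1, hpV j⟩
    haveI : Nonempty ((V i ⊓ V j : X.Opens) : Scheme.{u}) := hne'.to_subtype
    apply germ_injective_of_isIntegral X (genericPoint X)
      (((genericPoint_spec X).mem_open_set_iff (V i ⊓ V j).2).2 (by simpa using hne'))
    exact ((NormSect.germTo_res inf_le_left (s i)).trans ((hs i).trans (hs j).symm)).trans
      (NormSect.germTo_res inf_le_right (s j)).symm
  obtain ⟨σ, hσ, -⟩ := X.sheaf.existsUnique_gluing' V U (fun i => homOfLE (hVU i))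
    (fun x hx => Opens.mem_iSup.2 ⟨⟨x, hx⟩, hpV ⟨x, hx⟩⟩) s hcompat
  obtain ⟨p⟩ := ‹Nonempty U›
  haveI := hne p
  refine ⟨σ, ?_⟩
  rw [← hs p, ← hσ p]
  exact (NormSect.germTo_res (hVU p) σ).symm

variable {X Y : Scheme.{u}} (f : X ⟶ Y)

/-- Universally closed morphisms have integral maps of sections over affine opens. -/
theorem isIntegral_app [UniversallyClosed f] {V : Y.Opens} (hV : IsAffineOpen V) : (f.app V).hom.IsIntegral := by
  haveI : IsAffine (V : Scheme.{u}) := hV
  haveI : UniversallyClosed (f ∣_ V) := IsZariskiLocalAtTarget.restrict ‹_› V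
  have h := isIntegral_appTop_of_universallyClosed (f ∣_ V)
  rw [morphismRestrict_appTop, CommRingCat.hom_comp] at h
  let φ := X.presheaf.map (eqToHom (image_morphismRestrict_preimage f V ⊤)).op
  have h' : (f.app (V.ι ''ᵁ ⊤)).hom.IsIntegral := fun x => by
    obtain ⟨P, hP, hP0⟩ := h (φ.hom x)
    refine ⟨P, hP, ((ConcreteCategory.bijective_of_isIso φ).1) ?_⟩
    rw [map_zero]
    refine (Polynomial.hom_eval₂ P _ φ.hom x).trans ?_
    exact hP0
  have key : ∀ (O : Y.Opens), O = V → (f.app O).hom.IsIntegral → (f.app V).hom.IsIntegral := by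
    rintro O rfl h
    exact h
  exact key _ (Scheme.Opens.ι_image_top V) h'

variable [IsIntegral X] [IsIntegral Y] (h : f.base (genericPoint X) ⤳ genericPoint Y)

include h in
theorem map_genericPoint : f.base (genericPoint X) = genericPoint Y :=
  (h.antisymm ((genericPoint_spec Y).specializes trivial)).eq

include h in
theorem nonempty_preimage (U : Y.Opens) [Nonempty U] : Nonempty (f ⁻¹ᵁ U : X.Opens) :=
  ⟨⟨genericPoint X, show f.base (genericPoint X) ∈ U by
    rw [map_genericPoint f h]
    exact ((genericPoint_spec Y).mem_open_set_iff U.2).2 ⟨_, trivial, (Classical.arbitrary U).2⟩⟩⟩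

theorem field_germ (U : Y.Opens) [Nonempty U] [Nonempty (f ⁻¹ᵁ U : X.Opens)] (c : Γ(Y, U)) :
    CohIII.stalkToFunctionField f (genericPoint Y) h (Y.germToFunctionField U c) =
      X.germToFunctionField (f ⁻¹ᵁ U) (f.app U c) := by
  simp only [CohIII.stalkToFunctionField, RingHom.comp_apply, Scheme.germToFunctionField]
  erw [TopCat.Presheaf.germ_stalkSpecializes_apply, Scheme.Hom.germ_stalkMap_apply]

theorem field_injective : Function.Injective (CohIII.stalkToFunctionField f (genericPoint Y) h) := by
  letI : Field (Y.presheaf.stalk (genericPoint Y)) := inferInstanceAs (Field Y.functionField)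
  exact (CohIII.stalkToFunctionField f (genericPoint Y) h).injective

include h in
/-- If the function field downstairs is algebraically closed upstairs, sections descend. -/
theorem bijective_app [UniversallyClosed f] (hY : Pi1.IsNormalScheme Y)
    (hcl : ∀ x : ↑X.functionField, (CohIII.stalkToFunctionField f (genericPoint Y) h).IsIntegralElem x →
      x ∈ (CohIII.stalkToFunctionField f (genericPoint Y) h).range)
    (U : Y.Opens) : IsIso (f.app U) := by
  rw [ConcreteCategory.isIso_iff_bijective]
  let σ := CohIII.stalkToFunctionField f (genericPoint Y) h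
  rcases isEmpty_or_nonempty U with hU | hU
  · have hU0 : U = ⊥ := Opens.ext (Set.eq_empty_of_forall_notMem fun y hy => hU.false ⟨y, hy⟩)
    subst hU0
    haveI : Subsingleton Γ(Y, ⊥) := CommRingCat.subsingleton_of_isTerminal Y.sheaf.isTerminalOfEmpty
    haveI : Subsingleton Γ(X, f ⁻¹ᵁ ⊥) := CommRingCat.subsingleton_of_isTerminal X.sheaf.isTerminalOfEmpty
    exact ⟨fun a b _ => Subsingleton.elim _ _, fun b => ⟨0, Subsingleton.elim _ _⟩⟩
  haveI := nonempty_preimage f h U
  have hinjY : Function.Injective (Y.germToFunctionField U) := germ_injective_of_isIntegral Y _ _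
  have hinjX : Function.Injective (X.germToFunctionField (f ⁻¹ᵁ U)) := germ_injective_of_isIntegral X _ _
  refine ⟨fun a b hab => hinjY (field_injective f h ?_), fun b => ?_⟩
  · rw [field_germ, field_germ, hab]
  have hint : ∀ y ∈ U, ∃ (V : Y.Opens) (_ : y ∈ V) (_ : Nonempty V) (P : Polynomial Γ(Y, V)), P.Monic ∧
      P.eval₂ (σ.comp (Y.germToFunctionField V).hom) (X.germToFunctionField (f ⁻¹ᵁ U) b) = 0 := by
    intro y hy
    obtain ⟨V, hV, hyV, hVU⟩ := exists_isAffineOpen_mem_and_subset (X := Y) (U := U) hy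
    haveI : Nonempty V := ⟨⟨y, hyV⟩⟩
    haveI := nonempty_preimage f h V
    obtain ⟨P, hP, hP0⟩ := isIntegral_app f hV (X.presheaf.map (homOfLE (f.preimage_mono hVU)).op b)
    refine ⟨V, hyV, inferInstance, P, hP, ?_⟩
    have hc : σ.comp (Y.germToFunctionField V).hom = (X.germToFunctionField (f ⁻¹ᵁ V)).hom.comp (f.app V).hom :=
      RingHom.ext fun c => field_germ f h V c
    rw [hc, ← NormSect.germTo_res (f.preimage_mono hVU) b]
    refine (Polynomial.hom_eval₂ P _ (X.germToFunctionField (f ⁻¹ᵁ V)).hom _).symm.trans ?_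
    exact (congrArg _ hP0).trans (map_zero _)
  let y₀ := Classical.arbitrary U
  obtain ⟨V₀, -, _, P₀, hP₀, hP₀0⟩ := hint y₀.1 y₀.2
  obtain ⟨q, hq⟩ := hcl (X.germToFunctionField (f ⁻¹ᵁ U) b)
    ⟨P₀.map (Y.germToFunctionField V₀).hom, hP₀.map _, by rw [Polynomial.eval₂_map]; exact hP₀0⟩
  obtain ⟨a, ha⟩ := exists_section U q fun y hy => by
    obtain ⟨V, hyV, _, P, hP, hP0⟩ := hint y hy
    haveI := (hY y).2
    haveI := (hY y).1
    refine IsIntegrallyClosed.isIntegral_iff.1 ⟨P.map (Y.presheaf.germ V y hyV).hom, hP.map _, ?_⟩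
    rw [Polynomial.eval₂_map]
    have hc : (algebraMap (Y.presheaf.stalk y) Y.functionField).comp (Y.presheaf.germ V y hyV).hom =
        (Y.germToFunctionField V).hom := RingHom.ext fun r =>
      Y.presheaf.germ_stalkSpecializes_apply (U := V) hyV ((genericPoint_spec Y).specializes (Set.mem_univ y)) r
    rw [hc]
    refine field_injective f h ?_
    rw [map_zero, Polynomial.hom_eval₂]
    exact hq ▸ hP0
  refine ⟨a, hinjX ?_⟩
  rw [← field_germ f h, ha]
  exact hq

include h in
/-- Conversely, for a normal source the function field downstairs is algebraically closed upstairs. -/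
theorem mem_range_of_bijective (hX : Pi1.IsNormalScheme X) (hiso : ∀ U : Y.Opens, IsIso (f.app U))
    (x : ↑X.functionField) (hx : (CohIII.stalkToFunctionField f (genericPoint Y) h).IsIntegralElem x) :
    x ∈ (CohIII.stalkToFunctionField f (genericPoint Y) h).range := by
  let σ := CohIII.stalkToFunctionField f (genericPoint Y) h
  obtain ⟨V, hV, hηV, -⟩ := exists_isAffineOpen_mem_and_subset (X := Y) (x := genericPoint Y) (U := ⊤) trivial
  haveI : Nonempty V := ⟨⟨_, hηV⟩⟩
  haveI := nonempty_preimage f h V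
  letI : Algebra Γ(Y, V) Y.functionField := (Y.germToFunctionField V).hom.toAlgebra
  haveI : IsFractionRing Γ(Y, V) Y.functionField := functionField_isFractionRing_of_isAffineOpen Y V hV
  letI : Algebra Y.functionField X.functionField := RingHom.toAlgebra σ
  letI : Algebra Γ(Y, V) X.functionField := (σ.comp (Y.germToFunctionField V).hom).toAlgebra
  haveI : IsScalarTower Γ(Y, V) Y.functionField X.functionField := IsScalarTower.of_algebraMap_eq fun _ => rfl
  obtain ⟨d, hd⟩ := IsIntegral.exists_multiple_integral_of_isLocalization (nonZeroDivisors Γ(Y, V))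
    (Rₘ := Y.functionField) x hx
  obtain ⟨b, hb⟩ := exists_section (f ⁻¹ᵁ V) ((d : Γ(Y, V)) • x) fun z hz => by
    haveI := (hX z).2
    haveI := (hX z).1
    obtain ⟨P, hP, hP0⟩ := hd
    refine IsIntegrallyClosed.isIntegral_iff.1
      ⟨P.map ((X.presheaf.germ (f ⁻¹ᵁ V) z hz).hom.comp (f.app V).hom), hP.map _, ?_⟩
    rw [Polynomial.eval₂_map]
    have hc : (algebraMap (X.presheaf.stalk z) X.functionField).comp
        ((X.presheaf.germ (f ⁻¹ᵁ V) z hz).hom.comp (f.app V).hom) = algebraMap Γ(Y, V) X.functionField :=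
      RingHom.ext fun r => by
        refine (X.presheaf.germ_stalkSpecializes_apply (U := f ⁻¹ᵁ V) hz
          ((genericPoint_spec X).specializes (Set.mem_univ z)) (f.app V r)).trans ?_
        exact (field_germ f h V r).symm
    rw [hc]
    exact hP0
  obtain ⟨a, ha⟩ := ((ConcreteCategory.isIso_iff_bijective (f.app V)).1 (hiso V)).2 b
  have hd0 : algebraMap Γ(Y, V) Y.functionField (d : Γ(Y, V)) ≠ 0 :=
    IsFractionRing.to_map_ne_zero_of_mem_nonZeroDivisors d.2
  refine ⟨(algebraMap Γ(Y, V) Y.functionField (d : Γ(Y, V)))⁻¹ * Y.germToFunctionField V a, ?_⟩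
  rw [map_mul, map_inv₀, field_germ f h V a, ha, hb, Algebra.smul_def, IsScalarTower.algebraMap_apply Γ(Y, V) Y.functionField X.functionField]
  exact inv_mul_cancel_left₀ (fun e => hd0 (field_injective f h (e.trans (map_zero _).symm))) x

end Groth.Agent.DomFib
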